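import Cfsg.Agent.H649.ConjPair
import Cfsg.Agent.S0908
import Cfsg.Agent.S4655
import Cfsg.Agent.Blocks.BlockIdem
set_option linter.all false

/-!
# Conjugates in the fusion system of a block

For the fusion system `F` of a block on a maximal Brauer pair `(P, e)` and `(Q, f) ≤ (P, e)`, the
`F`-conjugates of `Q` are the `x Q x⁻¹` with `(x Q x⁻¹, x f) ≤ (P, e)`.
-/

set_option autoImplicit false

open Cfsg

namespace Cfsg.Agent.H649

universe u

variable {G : Type u} [Group G] [Fintype G] {p : ℕ} [Fact p.Prime] {M : Ideal AlgInt}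

/-- The pair below a given pair on a given subgroup is unique. -/
theorem subpair_unique (hM : IsPModular p M) {P Q : Subgroup G}
    {e : Set (IrrCharacter (Subgroup.centralizer (P : Set G)))} (hPe : IsBrauerPair p M P e)
    {f f' : Set (IrrCharacter (Subgroup.centralizer (Q : Set G)))}
    (h : SubpairLE p M Q f P e) (h' : SubpairLE p M Q f' P e) : f = f' := by
  obtain ⟨f₀, -, hu⟩ := Cfsg.Agent.S4655.result p M hM P Q e hPe (SubpairLE.le h)
  rw [hu f ⟨(SubpairLE.isBrauerPair h hPe).2, h⟩, hu f' ⟨(SubpairLE.isBrauerPair h' hPe).2, h'⟩]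

theorem isBrauerPair_of_max {B : Set (IrrCharacter G)} {P : Subgroup G}
    {e : Set (IrrCharacter (Subgroup.centralizer (P : Set G)))}
    (hmax : IsMaximalBrauerPair p M B P e) : IsBrauerPair p M P e := hmax.1.1

variable {B : Set (IrrCharacter G)} {P : Subgroup G}
  {e : Set (IrrCharacter (Subgroup.centralizer (P : Set G)))} {F : FusionSystem P}

theorem exists_of_isConj (hM : IsPModular p M) (hmax : IsMaximalBrauerPair p M B P e)
    (hF : IsBlockFusionSystemOn p M B P e F) {Q : Subgroup G}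
    {f : Set (IrrCharacter (Subgroup.centralizer (Q : Set G)))}
    (hle : SubpairLE p M Q f P e) {R : Subgroup G} (hR : F.IsConj Q R) :
    ∃ x : G, R = Q.map (MulAut.conj x).toMonoidHom ∧
      SubpairLE p M (Q.map (MulAut.conj x).toMonoidHom) (conjBlock Q x f) P e := by
  obtain ⟨φ, hφ, rfl⟩ := hR
  obtain ⟨-, g, hg, -, f', h1, h2⟩ := (hF.2 Q φ).1 hφ
  have hff : f' = f := subpair_unique hM hmax.1.1 h1 hle
  subst hff
  refine ⟨g, ?_, h2⟩
  ext y
  rw [MonoidHom.mem_range, Subgroup.mem_map]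
  constructor
  · rintro ⟨u, rfl⟩
    refine ⟨u, u.2, ?_⟩
    rw [hg]
    rfl
  · rintro ⟨u, hu, rfl⟩
    refine ⟨⟨u, hu⟩, ?_⟩
    rw [hg]
    rfl

theorem isConj_of_subpairLE (hF : IsBlockFusionSystemOn p M B P e F) {Q : Subgroup G}
    {f : Set (IrrCharacter (Subgroup.centralizer (Q : Set G)))}
    (hle : SubpairLE p M Q f P e) {x : G}
    (hx : SubpairLE p M (Q.map (MulAut.conj x).toMonoidHom) (conjBlock Q x f) P e) :
    F.IsConj Q (Q.map (MulAut.conj x).toMonoidHom) := by
  refine ⟨conjHom Q x, (hF.2 Q _).2 ⟨SubpairLE.le hle, x, fun u => rfl, SubpairLE.le hx,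
    f, hle, hx⟩, ?_⟩
  ext y
  rw [MonoidHom.mem_range, Subgroup.mem_map]
  constructor
  · rintro ⟨u, rfl⟩
    exact ⟨u, u.2, rfl⟩
  · rintro ⟨u, hu, rfl⟩
    exact ⟨⟨u, hu⟩, rfl⟩

theorem card_subgroupOf {A C : Subgroup G} (h : A ≤ C) :
    Nat.card (A.subgroupOf C) = Nat.card A :=
  Nat.card_congr (Subgroup.subgroupOfEquivOfLe h).toEquiv

theorem eq_of_le_of_card_ge {A C : Subgroup G} (h : A ≤ C) (hc : Nat.card C ≤ Nat.card A) :
    A = C := Subgroup.eq_of_le_of_card_ge h hc

/-- Defect groups of `f` and of a conjugate of `f` have the same order. -/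
theorem card_defect_conj (hM : IsPModular p M) {Q : Subgroup G}
    {f : Set (IrrCharacter (Subgroup.centralizer (Q : Set G)))} (hf : IsPBlock M f) (x : G)
    {D : Subgroup (Subgroup.centralizer (Q : Set G))} (hD : IsDefectGroup p M f D)
    {D' : Subgroup (Subgroup.centralizer
      ((Q.map (MulAut.conj x).toMonoidHom : Subgroup G) : Set G))}
    (hD' : IsDefectGroup p M (conjBlock Q x f) D') : Nat.card D' = Nat.card D := by
  rw [Cfsg.Agent.S0908.result p M hM f hf D hD,
    Cfsg.Agent.S0908.result p M hM (conjBlock Q x f) ((isPBlock_conjBlock_iff Q x f).2 hf) D' hD',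
    conjBlock_eq, pairMap, blockDefect_blkMap]

/-- A set of irreducible characters is determined by its idempotent coefficients. -/
theorem eq_of_blockCoeff {L : Type*} [Group L] [Finite L] {A A' : Set (IrrCharacter L)}
    (h : ∀ t : L, blockCoeff A t = blockCoeff A' t) : A = A' := by
  classical
  have : Fintype L := Fintype.ofFinite L
  ext χ
  have h1 := Cfsg.Agent.Blocks.BlockIdem.lin_blockCoeff A χ
  have h2 := Cfsg.Agent.Blocks.BlockIdem.lin_blockCoeff A' χ
  have h3 : blockCoeff A = blockCoeff A' := funext h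
  rw [h3, h2] at h1
  have h4 : (χ : L → ℂ) 1 ≠ 0 := Cfsg.Agent.Blocks.Basic.irr_one_ne_zero χ.2
  by_cases ha : χ ∈ A <;> by_cases hb : χ ∈ A' <;> simp_all

/-- Elements of `P` fix every pair `(P, e)`. -/
theorem conjIdx_self_of_mem {x : G} (hx : x ∈ P) [M.IsPrime] (he : IsPBlock M e) :
    conjIdx x ⟨P, e⟩ = ⟨P, e⟩ := by
  have hxn : x ∈ Subgroup.normalizer (P : Set G) := Subgroup.le_normalizer hx
  refine (conjIdx_eq_iff he x).2 ⟨hxn, mem_normalizer_centralizer hxn, fun χ hχ => ⟨χ, hχ, ?_⟩⟩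
  intro k k' hk
  have h1 := Subgroup.mem_centralizer_iff.1 k.2 x hx
  have h2 : k' = k := by
    apply Subtype.ext
    rw [hk, h1]
    group
  rw [h2]

/-- Elements of `N_P(Q)` stabilize the block `f` of `C_G(Q)` with `(Q, f) ≤ (P, e)`. -/
theorem stabilizes_of_mem (hM : IsPModular p M) (hPe : IsBrauerPair p M P e) {Q : Subgroup G}
    {f : Set (IrrCharacter (Subgroup.centralizer (Q : Set G)))}
    (hle : SubpairLE p M Q f P e) {x : G} (hx : x ∈ P)
    (hxQ : x ∈ Subgroup.normalizer (Q : Set G)) :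
    StabilizesBlock (Subgroup.centralizer (Q : Set G)) f x := by
  have hp : M.IsPrime := Cfsg.Agent.Blocks.Local.isPrime_of_isPModular hM
  have hf : IsPBlock M f := (SubpairLE.isBrauerPair hle hPe).2
  refine ((conjIdx_eq_iff hf x).1 ?_).2
  have h1 : LEIdx p M (conjIdx x ⟨Q, f⟩) (conjIdx x ⟨P, e⟩) :=
    (leIdx_conjIdx_iff x).2 hle
  rw [conjIdx_self_of_mem hx hPe.2] at h1
  have h2 : (conjIdx x ⟨Q, f⟩).1 = Q := (mem_normalizer_iff_map_conj Q x).1 hxQ
  revert h1 h2
  generalize conjIdx x ⟨Q, f⟩ = a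
  intro h1 h2
  obtain ⟨Q', f'⟩ := a
  have h3 : Q' = Q := h2
  subst h3
  rw [subpair_unique hM hPe h1 hle]

theorem inf_normalizer_le (hM : IsPModular p M) (hPe : IsBrauerPair p M P e) {Q : Subgroup G}
    {f : Set (IrrCharacter (Subgroup.centralizer (Q : Set G)))}
    (hle : SubpairLE p M Q f P e) {T : Subgroup G}
    (hT : ∀ y : G, y ∈ T ↔ y ∈ Subgroup.normalizer (Q : Set G) ∧
      StabilizesBlock (Subgroup.centralizer (Q : Set G)) f y) :
    P ⊓ Subgroup.normalizer (Q : Set G) ≤ T := fun y hy =>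
  (hT y).2 ⟨hy.2, stabilizes_of_mem hM hPe hle hy.1 hy.2⟩

/-- Restriction of an isomorphism to a subgroup. -/
def subIso {H : Type*} [Group H] (i : G ≃* H) (T : Subgroup G) : T ≃* T.map i.toMonoidHom :=
  i.subgroupMap T

theorem subIso_coe {H : Type*} [Group H] (i : G ≃* H) (T : Subgroup G) (t : T) :
    ((subIso i T t : T.map i.toMonoidHom) : H) = i t := rfl

theorem mem_map_conj_iff {Q : Subgroup G}
    {f : Set (IrrCharacter (Subgroup.centralizer (Q : Set G)))} {T : Subgroup G}
    (hT : ∀ y : G, y ∈ T ↔ y ∈ Subgroup.normalizer (Q : Set G) ∧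
      StabilizesBlock (Subgroup.centralizer (Q : Set G)) f y) (x y : G) :
    y ∈ T.map (MulAut.conj x).toMonoidHom ↔
      y ∈ Subgroup.normalizer ((Q.map (MulAut.conj x).toMonoidHom : Subgroup G) : Set G) ∧
      StabilizesBlock (Subgroup.centralizer
        ((Q.map (MulAut.conj x).toMonoidHom : Subgroup G) : Set G)) (conjBlock Q x f) y := by
  obtain ⟨z, rfl⟩ := (MulAut.conj x).surjective y
  rw [conjBlock_eq]
  refine (map_mem_map_iff (MulAut.conj x) T z).trans ((hT z).trans ?_)
  exact and_congr (map_mem_normalizer_iff (MulAut.conj x) Q z).symm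
    (stabilizesBlock_map_iff (MulAut.conj x) Q f z).symm

theorem isDefectGroup_conjBlock_iff {Q : Subgroup G} (x : G)
    {f : Set (IrrCharacter (Subgroup.centralizer (Q : Set G)))} {D : Subgroup G} :
    IsDefectGroup p M (conjBlock Q x f) ((D.map (MulAut.conj x).toMonoidHom).subgroupOf
      (Subgroup.centralizer ((Q.map (MulAut.conj x).toMonoidHom : Subgroup G) : Set G))) ↔
    IsDefectGroup p M f (D.subgroupOf (Subgroup.centralizer (Q : Set G))) := by
  rw [conjBlock_eq]
  have h2 : (D.subgroupOf (Subgroup.centralizer (Q : Set G))).map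
      (cenIso (MulAut.conj x) Q).toMonoidHom = (D.map (MulAut.conj x).toMonoidHom).subgroupOf
      (Subgroup.centralizer
        ((Q.map (MulAut.conj x).toMonoidHom : Subgroup G) : Set G)) := by
    ext c
    rw [Subgroup.mem_map_equiv, Subgroup.mem_subgroupOf, Subgroup.mem_subgroupOf,
      cenIso_symm_coe, Subgroup.mem_map_equiv]
  rw [← h2]
  exact isDefectGroup_blkMap_iff

theorem map_inf_centralizer (Q : Subgroup G) (x : G) :
    (Q ⊓ Subgroup.centralizer (Q : Set G)).map (MulAut.conj x).toMonoidHom =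
      Q.map (MulAut.conj x).toMonoidHom ⊓ Subgroup.centralizer
        ((Q.map (MulAut.conj x).toMonoidHom : Subgroup G) : Set G) := by
  rw [Subgroup.map_inf _ _ _ (MulAut.conj x).injective, centralizer_map]

/-- The block of the conjugate stabilizer. -/
theorem isPBlock_subIso {Q : Subgroup G}
    {f : Set (IrrCharacter (Subgroup.centralizer (Q : Set G)))} {T : Subgroup G}
    {F₁ : Set (IrrCharacter T)} (hF₁ : IsPBlock M F₁)
    (hc : ∀ t : T, blockCoeff F₁ t =
      subgroupBlockCoeff (Subgroup.centralizer (Q : Set G)) f (t : G)) (x : G) :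
    IsPBlock M (blkMap (subIso (MulAut.conj x) T) F₁) ∧
    ∀ t : T.map (MulAut.conj x).toMonoidHom, blockCoeff (blkMap (subIso (MulAut.conj x) T) F₁) t =
      subgroupBlockCoeff (Subgroup.centralizer
        ((Q.map (MulAut.conj x).toMonoidHom : Subgroup G) : Set G)) (conjBlock Q x f) (t : G) := by
  refine ⟨isPBlock_blkMap hF₁, fun t => ?_⟩
  obtain ⟨s, rfl⟩ := (subIso (MulAut.conj x) T).surjective t
  rw [blockCoeff_blkMap, hc, subIso_coe, conjBlock_eq, subgroupBlockCoeff_map]

end Cfsg.Agent.H649
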