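import Cfsg.Agent.H649.DefectPair
import Cfsg.Agent.H651.LocalPair
import Cfsg.Agent.H646.NormalSupport
import Cfsg.Agent.S0909
import Cfsg.Agent.S0912
import Cfsg.Agent.S0913
import Cfsg.Agent.Lib.Cores
set_option linter.all false

/-!
# The block of the stabilizer of a Brauer pair

`(Q, f)` a Brauer pair of `G`, `T` the stabilizer of `f` in `N_G(Q)` (`IsStab Q f T`).

* `exists_block_of_isStab`: the idempotent of `f` is a block idempotent of `T`;
* `isNormalSubpair_up_iff`: the Brauer pairs of this block of `T` on subgroups containing `Q`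
  are the Brauer pairs of `G` normally above `(Q, f)`.
-/

set_option autoImplicit false
set_option linter.unusedSectionVars false

open Cfsg

namespace Cfsg.Agent.H649

open Cfsg.Agent.H644 Cfsg.Agent.Blocks.Local Cfsg.Agent.H651
open Cfsg.Agent.Blocks.Basic (isPBlock_nonempty isPBlock_blockOf)
open Cfsg.Agent.Blocks.Fong (cj cj_apply lyingOver mem_lyingOver)
open Cfsg.Agent.H646.NormalSupport (underSet mem_underSet lyingOver_underSet)

universe u

variable {p : ℕ} [Fact p.Prime] {M : Ideal AlgInt} {G : Type u} [Group G]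

/-- `T` is the stabilizer of `f` in `N_G(Q)`. -/
def IsStab (Q : Subgroup G) (f : Set (IrrCharacter (Subgroup.centralizer (Q : Set G))))
    (T : Subgroup G) : Prop :=
  ∀ y : G, y ∈ T ↔ y ∈ Subgroup.normalizer (Q : Set G) ∧
      StabilizesBlock (Subgroup.centralizer (Q : Set G)) f y

section Stab

variable {Q : Subgroup G} {f : Set (IrrCharacter (Subgroup.centralizer (Q : Set G)))}
  {T : Subgroup G}

theorem IsStab.le_normalizer (h : IsStab Q f T) : T ≤ Subgroup.normalizer (Q : Set G) :=
  fun x hx => ((h x).1 hx).1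

theorem IsStab.le (h : IsStab Q f T) : Q ≤ T := fun x hx =>
  (h x).2 ⟨Subgroup.le_normalizer hx, stabilizesBlock_of_mem_left f hx⟩

theorem IsStab.centralizer_le (h : IsStab Q f T) : Subgroup.centralizer (Q : Set G) ≤ T :=
  fun x hx => (h x).2 ⟨Subgroup.centralizer_le_normalizer _ hx, stabilizesBlock_of_mem f hx⟩

theorem IsStab.normal_subgroupOf (h : IsStab Q f T) : (Q.subgroupOf T).Normal := by
  refine ⟨fun x hx t => ?_⟩
  rw [Subgroup.mem_subgroupOf] at hx ⊢
  exact (Subgroup.mem_normalizer_iff.1 (h.le_normalizer t.2) _).1 hx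

theorem IsStab.normal_centralizer (h : IsStab Q f T) :
    ((Subgroup.centralizer (Q : Set G)).subgroupOf T).Normal := by
  refine ⟨fun x hx t => ?_⟩
  rw [Subgroup.mem_subgroupOf] at hx ⊢
  exact (Subgroup.mem_normalizer_iff.1
    (mem_normalizer_centralizer (h.le_normalizer t.2)) _).1 hx

theorem centralizer_subgroupOf_le :
    Subgroup.centralizer ((Q.subgroupOf T : Subgroup T) : Set T) ≤
      (Subgroup.centralizer (Q : Set G)).subgroupOf T ↔
    ∀ x : T, (∀ q ∈ Q.subgroupOf T, q * x = x * q) → (x : G) ∈ Subgroup.centralizer (Q : Set G) := by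
  constructor
  · intro h x hx
    exact h (Subgroup.mem_centralizer_iff.2 hx)
  · intro h x hx
    exact h x (Subgroup.mem_centralizer_iff.1 hx)

theorem centralizer_subgroupOf_of_le (h : Q ≤ T) :
    Subgroup.centralizer ((Q.subgroupOf T : Subgroup T) : Set T) ≤
      (Subgroup.centralizer (Q : Set G)).subgroupOf T := by
  intro x hx
  rw [Subgroup.mem_subgroupOf, Subgroup.mem_centralizer_iff]
  intro q hq
  exact congrArg Subtype.val (Subgroup.mem_centralizer_iff.1 hx ⟨q, h hq⟩ hq)

end Stab

section Exists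

variable [Finite G] {Q : Subgroup G}
  {f : Set (IrrCharacter (Subgroup.centralizer (Q : Set G)))} {T : Subgroup G}

/-- The characters of the stabilizer `T` over `f`. -/
theorem lyingOver_of_isStab (hT : IsStab Q f T) (N : Subgroup T) [N.Normal] [Fintype T]
    [Fintype N] (i : N ≃* Subgroup.centralizer (Q : Set G))
    (hN : ∀ t : T, t ∈ N ↔ (t : G) ∈ Subgroup.centralizer (Q : Set G))
    (hi : ∀ n : N, ((i n : Subgroup.centralizer (Q : Set G)) : G) = ((n : T) : G)) :
    (∀ (g : T) (θ : IrrCharacter N), θ ∈ blkMap i.symm f → cj N g θ ∈ blkMap i.symm f) ∧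
    (∀ χ ∈ lyingOver N (blkMap i.symm f), ∀ ψ : IrrCharacter N,
      classInner (fun n : N => (χ : T → ℂ) n) (ψ : N → ℂ) ≠ 0 → ψ ∈ blkMap i.symm f) ∧
    ∀ t : T, blockCoeff (lyingOver N (blkMap i.symm f)) t =
      subgroupBlockCoeff (Subgroup.centralizer (Q : Set G)) f (t : G) := by
  classical
  let b : Set (IrrCharacter N) := blkMap i.symm f
  have hinv : ∀ (g : T) (θ : IrrCharacter N), θ ∈ b → cj N g θ ∈ b := by
    rintro g _ ⟨χ, hχ, rfl⟩
    obtain ⟨-, -, h⟩ := (hT (g⁻¹ : T)).1 (g⁻¹).2
    obtain ⟨χ', hχ', h'⟩ := h χ hχ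
    refine ⟨χ', hχ', ?_⟩
    apply Subtype.ext
    funext n
    rw [cj_apply, irrMap_apply, irrMap_apply]
    apply h' (i (MulAut.conjNormal g n)) (i n)
    rw [hi, hi, MulAut.conjNormal_apply]
    push_cast
    group
  have hcl : ∀ χ ∈ lyingOver N b, ∀ ψ : IrrCharacter N,
      classInner (fun n : N => (χ : T → ℂ) n) (ψ : N → ℂ) ≠ 0 → ψ ∈ b := by
    rintro χ ⟨θ, hθ, hne⟩ ψ hψ
    obtain ⟨g, hg⟩ := Cfsg.Agent.Characters.Clifford.exists_conj_of_constituents N χ.2 θ.2 ψ.2
      hne hψ
    have h1 : ψ = cj N g θ := Subtype.ext hg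
    rw [h1]
    exact hinv g θ hθ
  have hcoef : ∀ t : T, blockCoeff (lyingOver N b) t =
      subgroupBlockCoeff (Subgroup.centralizer (Q : Set G)) f (t : G) := by
    intro t
    rw [Cfsg.Agent.Blocks.Fong.blockCoeff_lyingOver N b hinv hcl t]
    by_cases ht : t ∈ N
    · rw [dif_pos ht, subgroupBlockCoeff_of_mem _ _ ((hN t).1 ht),
        blockCoeff_blkMap' i.symm f ⟨t, ht⟩]
      congr 1
      exact Subtype.ext (hi ⟨t, ht⟩)
    · rw [dif_neg ht, subgroupBlockCoeff_of_notMem _ _ (fun h => ht ((hN t).2 h))]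
  exact ⟨hinv, hcl, hcoef⟩

/-- The idempotent of `f` is a block idempotent of the stabilizer `T` of `f` in `N_G(Q)`. -/
theorem exists_block_of_isStab (hM : IsPModular p M) (hQ : IsPGroup p Q) (hf : IsPBlock M f)
    (hT : IsStab Q f T) : ∃ F : Set (IrrCharacter T), IsPBlock M F ∧
      ∀ t : T, blockCoeff F t =
        subgroupBlockCoeff (Subgroup.centralizer (Q : Set G)) f (t : G) := by
  classical
  have hp : M.IsPrime := isPrime_of_isPModular hM
  have hnor : ((Subgroup.centralizer (Q : Set G)).subgroupOf T).Normal := hT.normal_centralizer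
  have hQn : (Q.subgroupOf T).Normal := hT.normal_subgroupOf
  have : Fintype T := Fintype.ofFinite T
  have : Fintype ((Subgroup.centralizer (Q : Set G)).subgroupOf T) := Fintype.ofFinite _
  have hQT : IsPGroup p (Q.subgroupOf T) :=
    hQ.comap_of_injective T.subtype (Subgroup.subtype_injective T)
  set N : Subgroup T := (Subgroup.centralizer (Q : Set G)).subgroupOf T with hN
  obtain ⟨hinv, hcl, hcoef⟩ := lyingOver_of_isStab hT N
    (Subgroup.subgroupOfEquivOfLe hT.centralizer_le) (fun _ => Iff.rfl) (fun _ => rfl)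
  set b : Set (IrrCharacter N) := blkMap (Subgroup.subgroupOfEquivOfLe hT.centralizer_le).symm f
    with hbdef
  have hb : IsPBlock M b := isPBlock_blkMap hf
  refine ⟨lyingOver N b, ?_, hcoef⟩
  -- nonempty
  have hne : (lyingOver N b).Nonempty := by
    by_contra hcon
    rw [Set.not_nonempty_iff_eq_empty] at hcon
    have h1 : f = ∅ := by
      apply eq_of_blockCoeff
      intro c
      have h2 := hcoef ⟨(c : G), hT.centralizer_le c.2⟩
      rw [subgroupBlockCoeff_coe, hcon] at h2
      rw [← h2]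
      simp [blockCoeff]
    obtain ⟨ξ, hξ⟩ := isPBlock_nonempty hf
    rw [h1] at hξ
    exact hξ
  obtain ⟨χ₀, hχ₀⟩ := hne
  have hF : IsPBlock M (blockOf M (χ₀ : T → ℂ)) := ⟨χ₀, rfl⟩
  have hsub : blockOf M (χ₀ : T → ℂ) ⊆ lyingOver N b := by
    apply Cfsg.Agent.S0909.result p M hM _ _ χ₀ hχ₀
    intro t
    rw [Cfsg.Agent.Blocks.Fong.blockCoeff_lyingOver N b hinv hcl t]
    split_ifs with ht
    · exact Cfsg.Agent.S0913.result p M hM b hb ⟨t, ht⟩
    · exact Cfsg.Agent.Blocks.Local.memLocalRing_zero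
  have h1 := lyingOver_underSet hM hF (Q.subgroupOf T) hQT N (centralizer_subgroupOf_of_le hT.le)
  have h2 : underSet N (blockOf M (χ₀ : T → ℂ)) = b := by
    have h3 : underSet N (blockOf M (χ₀ : T → ℂ)) ⊆ b := by
      rintro θ ⟨χ, hχ, h⟩
      exact hcl χ (hsub hχ) θ h
    refine h3.antisymm ?_
    obtain ⟨θ, hθ⟩ := Cfsg.Agent.Blocks.Fong.exists_constituent N χ₀
    have h4 : θ ∈ underSet N (blockOf M (χ₀ : T → ℂ)) := ⟨χ₀, Cfsg.Agent.Blocks.Basic.mem_blockOf_self χ₀, hθ⟩
    have h5 : blockOf M (θ : N → ℂ) ⊆ underSet N (blockOf M (χ₀ : T → ℂ)) := by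
      apply Cfsg.Agent.S0909.result p M hM _ _ θ h4
      intro n
      have h6 := Cfsg.Agent.H646.NormalSupport.blockCoeff_eq hM hF (Q.subgroupOf T) hQT N
        (centralizer_subgroupOf_of_le hT.le) (n : T)
      rw [dif_pos n.2] at h6
      change MemLocalRing M (blockCoeff _ (⟨(n : T), n.2⟩ : N))
      rw [← h6]
      exact Cfsg.Agent.S0913.result p M hM _ hF _
    have h6 : b = blockOf M (θ : N → ℂ) :=
      Cfsg.Agent.Blocks.Fong.isPBlock_eq_blockOf hp hb (h3 h4)
    rw [h6]
    exact h5
  rw [h2] at h1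
  rw [h1]
  exact hF

/-- The constituents on `C_G(Q)` of a member of the block of the stabilizer lie in `f`. -/
theorem mem_of_constituent [Fintype (Subgroup.centralizer (Q : Set G))] (hT : IsStab Q f T)
    {F : Set (IrrCharacter T)}
    (hFc : ∀ t : T, blockCoeff F t =
      subgroupBlockCoeff (Subgroup.centralizer (Q : Set G)) f (t : G))
    {χ : IrrCharacter T} (hχ : χ ∈ F) {θ : IrrCharacter (Subgroup.centralizer (Q : Set G))}
    (h : classInner (fun c : Subgroup.centralizer (Q : Set G) =>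
      (χ : T → ℂ) ⟨(c : G), hT.centralizer_le c.2⟩) (θ : _ → ℂ) ≠ 0) : θ ∈ f := by
  classical
  have hnor : ((Subgroup.centralizer (Q : Set G)).subgroupOf T).Normal := hT.normal_centralizer
  have : Fintype T := Fintype.ofFinite T
  have : Fintype ((Subgroup.centralizer (Q : Set G)).subgroupOf T) := Fintype.ofFinite _
  obtain ⟨hinv, hcl, hcoef⟩ := lyingOver_of_isStab hT
    ((Subgroup.centralizer (Q : Set G)).subgroupOf T)
    (Subgroup.subgroupOfEquivOfLe hT.centralizer_le) (fun _ => Iff.rfl) (fun _ => rfl)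
  have h1 : F = lyingOver ((Subgroup.centralizer (Q : Set G)).subgroupOf T)
      (blkMap (Subgroup.subgroupOfEquivOfLe hT.centralizer_le).symm f) :=
    eq_of_blockCoeff fun t => by rw [hFc, hcoef]
  rw [h1] at hχ
  have h2 := hcl χ hχ (irrMap (Subgroup.subgroupOfEquivOfLe hT.centralizer_le).symm θ) (by
    rw [← Cfsg.Agent.Characters.Clifford.classInner_comp_mulEquiv
      (Subgroup.subgroupOfEquivOfLe hT.centralizer_le).symm]
    convert h using 2
    all_goals
      funext c
      first
        | rfl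
        | exact irrMap_apply' (Subgroup.subgroupOfEquivOfLe hT.centralizer_le).symm θ c)
  rwa [irrMap_mem_blkMap] at h2

end Exists

section Up

theorem mem_centralizer_map_subtype {T : Subgroup G} {R : Subgroup T} (x : T) :
    (x : G) ∈ Subgroup.centralizer ((R.map T.subtype : Subgroup G) : Set G) ↔
      x ∈ Subgroup.centralizer (R : Set T) := by
  rw [Subgroup.mem_centralizer_iff, Subgroup.mem_centralizer_iff]
  constructor
  · intro h r hr
    exact Subtype.ext (h r ⟨r, hr, rfl⟩)
  · rintro h _ ⟨r, hr, rfl⟩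
    exact congrArg Subtype.val (h r hr)

/-- `C_T(R) ≃* C_G(R)` when `C_G(R) ≤ T`. -/
def upIso (T : Subgroup G) (R : Subgroup T)
    (h : Subgroup.centralizer ((R.map T.subtype : Subgroup G) : Set G) ≤ T) :
    Subgroup.centralizer (R : Set T) ≃*
      Subgroup.centralizer ((R.map T.subtype : Subgroup G) : Set G) where
  toFun c := ⟨((c : T) : G), (mem_centralizer_map_subtype _).2 c.2⟩
  invFun c := ⟨⟨(c : G), h c.2⟩, (mem_centralizer_map_subtype ⟨(c : G), h c.2⟩).1 c.2⟩
  left_inv _ := rfl
  right_inv _ := rfl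
  map_mul' _ _ := rfl

theorem upIso_coe (T : Subgroup G) (R : Subgroup T)
    (h : Subgroup.centralizer ((R.map T.subtype : Subgroup G) : Set G) ≤ T)
    (c : Subgroup.centralizer (R : Set T)) :
    ((upIso T R h c : Subgroup.centralizer ((R.map T.subtype : Subgroup G) : Set G)) : G) =
      ((c : T) : G) := rfl

variable {Q : Subgroup G} {f : Set (IrrCharacter (Subgroup.centralizer (Q : Set G)))}
  {T : Subgroup G}

theorem brauerOmega_up {F : Set (IrrCharacter T)}
    (hFc : ∀ t : T, blockCoeff F t =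
      subgroupBlockCoeff (Subgroup.centralizer (Q : Set G)) f (t : G)) (R : Subgroup T)
    (h : Subgroup.centralizer ((R.map T.subtype : Subgroup G) : Set G) ≤ T)
    (ξ : IrrCharacter (Subgroup.centralizer (R : Set T))) :
    brauerOmega (R.map T.subtype) (subgroupBlockCoeff (Subgroup.centralizer (Q : Set G)) f)
      (irrMap (upIso T R h) ξ : _ → ℂ) = brauerOmega R (blockCoeff F) (ξ : _ → ℂ) := by
  rw [brauerOmega, brauerOmega]
  refine (finsum_eq_of_bijective (upIso T R h) (upIso T R h).bijective fun x => ?_).symm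
  rw [irrMap_apply', irrMap_one, upIso_coe, hFc]

theorem IsStab.centralizer_map_le (hT : IsStab Q f T) {R : Subgroup T}
    (hQR : Q ≤ R.map T.subtype) :
    Subgroup.centralizer ((R.map T.subtype : Subgroup G) : Set G) ≤ T :=
  (Subgroup.centralizer_le hQR).trans hT.centralizer_le

/-- The Brauer pairs of the block of the stabilizer `T` on subgroups containing `Q` are the Brauer
pairs of `G` normally above `(Q, f)`. -/
theorem isNormalSubpair_up_iff (hQ : IsPGroup p Q) (hf : IsPBlock M f) (hT : IsStab Q f T)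
    {F : Set (IrrCharacter T)} (hF : IsPBlock M F)
    (hFc : ∀ t : T, blockCoeff F t =
      subgroupBlockCoeff (Subgroup.centralizer (Q : Set G)) f (t : G)) {R : Subgroup T}
    (hQR : Q ≤ R.map T.subtype) {g : Set (IrrCharacter (Subgroup.centralizer (R : Set T)))} :
    IsNormalSubpair p M Q f (R.map T.subtype)
      (blkMap (upIso T R (hT.centralizer_map_le hQR)) g) ↔ IsBrauerPairOf p M F R g := by
  constructor
  · rintro ⟨-, ⟨h1, h2⟩, -, -, -, h6⟩
    refine ⟨⟨?_, isPBlock_blkMap_iff.1 h2⟩, hF, fun ξ hξ => ?_⟩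
    · have h3 := h1.comap_of_injective T.subtype (Subgroup.subtype_injective T)
      rwa [Subgroup.comap_map_eq_self_of_injective (Subgroup.subtype_injective T)] at h3
    · have h7 := h6 (irrMap (upIso T R (hT.centralizer_map_le hQR)) ξ) (irrMap_mem_blkMap.2 hξ)
      rwa [brauerOmega_up hFc] at h7
  · rintro ⟨⟨h1, h2⟩, -, h4⟩
    refine ⟨⟨hQ, hf⟩, ⟨h1.map _, isPBlock_blkMap h2⟩, hQR,
      (Subgroup.map_subtype_le R).trans hT.le_normalizer, fun x hx => ?_, ?_⟩
    · exact ((hT x).1 (Subgroup.map_subtype_le R hx)).2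
    · rintro _ ⟨ξ, hξ, rfl⟩
      rw [brauerOmega_up hFc]
      exact h4 ξ hξ

end Up

section Defect

variable [Finite G] {Q P : Subgroup G}
  {f : Set (IrrCharacter (Subgroup.centralizer (Q : Set G)))}
  {e : Set (IrrCharacter (Subgroup.centralizer (P : Set G)))} {T : Subgroup G}

/-- `N_P(Q)` is contained in a defect group of the block of the stabilizer. -/
theorem exists_stab_defect (hM : IsPModular p M) (hPe : IsBrauerPair p M P e)
    (hle : SubpairLE p M Q f P e) (hT : IsStab Q f T)
    {F : Set (IrrCharacter T)} (hF : IsPBlock M F)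
    (hFc : ∀ t : T, blockCoeff F t =
      subgroupBlockCoeff (Subgroup.centralizer (Q : Set G)) f (t : G)) :
    ∃ D : Subgroup T, IsDefectGroup p M F D ∧
      (P ⊓ Subgroup.normalizer (Q : Set G)).subgroupOf T ≤ D := by
  have hp : M.IsPrime := isPrime_of_isPModular hM
  have hQf := SubpairLE.isBrauerPair hle hPe
  have := Fintype.ofFinite G
  have hNT : P ⊓ Subgroup.normalizer (Q : Set G) ≤ T := inf_normalizer_le hM hPe hle hT
  have hQN : Q ≤ P ⊓ Subgroup.normalizer (Q : Set G) :=
    le_inf (SubpairLE.le hle) Subgroup.le_normalizer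
  have hmap : ((P ⊓ Subgroup.normalizer (Q : Set G)).subgroupOf T).map T.subtype =
      P ⊓ Subgroup.normalizer (Q : Set G) := Subgroup.map_subgroupOf_eq_of_le hNT
  have hQR : Q ≤ ((P ⊓ Subgroup.normalizer (Q : Set G)).subgroupOf T).map T.subtype := by
    rw [hmap]; exact hQN
  obtain ⟨g, hg, -⟩ := existsUnique_subpairLE hM hPe
    (Q := ((P ⊓ Subgroup.normalizer (Q : Set G)).subgroupOf T).map T.subtype)
    (by rw [hmap]; exact inf_le_left)
  have hgb := SubpairLE.isBrauerPair hg hPe
  have hle' := subpairLE_of_subpairLE hM hPe hle hg hQR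
  have hnorm := isNormalSubpair_of_subpairLE hM hgb hle' (by rw [hmap]; exact inf_le_right)
  have h1 : blkMap (upIso T _ (hT.centralizer_map_le hQR))
      (blkMap (upIso T _ (hT.centralizer_map_le hQR)).symm g) = g :=
    blkMap_blkMap_symm _ g
  rw [← h1] at hnorm
  exact exists_defect_ge hM ((isNormalSubpair_up_iff hQf.1 hQf.2 hT hF hFc hQR).1 hnorm)

/-- A defect group of the block of the stabilizer contains `Q` and carries a Brauer pair of `G`
normally above `(Q, f)`. -/
theorem exists_pair_of_stab_defect (hM : IsPModular p M) (hQ : IsPGroup p Q) (hf : IsPBlock M f)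
    (hT : IsStab Q f T) {F : Set (IrrCharacter T)} (hF : IsPBlock M F)
    (hFc : ∀ t : T, blockCoeff F t =
      subgroupBlockCoeff (Subgroup.centralizer (Q : Set G)) f (t : G))
    {D : Subgroup T} (hD : IsDefectGroup p M F D) :
    Q ≤ D.map T.subtype ∧
      ∃ g : Set (IrrCharacter (Subgroup.centralizer ((D.map T.subtype : Subgroup G) : Set G))),
        IsNormalSubpair p M Q f (D.map T.subtype) g := by
  have hp : M.IsPrime := isPrime_of_isPModular hM
  have hQn : (Q.subgroupOf T).Normal := hT.normal_subgroupOf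
  have hQT : IsPGroup p (Q.subgroupOf T) :=
    hQ.comap_of_injective T.subtype (Subgroup.subtype_injective T)
  have h1 : Q.subgroupOf T ≤ D :=
    (Cfsg.Agent.Lib.Cores.le_pCore hQn hQT).trans (Cfsg.Agent.S0912.result p M hM F hF D hD)
  have h2 : Q ≤ D.map T.subtype := by
    have h3 := Subgroup.map_mono (f := T.subtype) h1
    rwa [Subgroup.map_subgroupOf_eq_of_le hT.le] at h3
  obtain ⟨g, hg⟩ := exists_pair_of_isDefectGroup hM hF hD
  exact ⟨h2, _, (isNormalSubpair_up_iff hQ hf hT hF hFc h2).2 hg⟩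

end Defect

end Cfsg.Agent.H649
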