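import Cfsg.Agent.H649.StabBlock
import Cfsg.Agent.S4660
set_option linter.all false

/-!
# Defect groups of the block of the stabilizer of a Brauer pair (second part of S4662)
-/

set_option autoImplicit false
set_option linter.unusedSectionVars false

open Cfsg

namespace Cfsg.Agent.H649

open Cfsg.Agent.H644 Cfsg.Agent.Blocks.Local Cfsg.Agent.H651

universe u

variable {p : ℕ} [Fact p.Prime] {M : Ideal AlgInt} {G : Type u} [Group G] [Finite G]

/-- Some conjugate `(xQx⁻¹, xf)` lies below the maximal pair `(P, e)` and `N_P(xQx⁻¹)` is a defect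
group of the block of its stabilizer. -/
theorem exists_conj_stab_defect (hM : IsPModular p M) {B : Set (IrrCharacter G)}
    {P : Subgroup G} {e : Set (IrrCharacter (Subgroup.centralizer (P : Set G)))}
    (hmax : IsMaximalBrauerPair p M B P e)
    {Q : Subgroup G} {f : Set (IrrCharacter (Subgroup.centralizer (Q : Set G)))}
    (hQf : IsBrauerPairOf p M B Q f) {T : Subgroup G} (hT : IsStab Q f T) :
    ∃ x : G, SubpairLE p M (Q.map (MulAut.conj x).toMonoidHom) (conjBlock Q x f) P e ∧
      ∀ T' : Subgroup G, IsStab (Q.map (MulAut.conj x).toMonoidHom) (conjBlock Q x f) T' →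
      ∃ F' : Set (IrrCharacter T'), IsPBlock M F' ∧
        (∀ t : T', blockCoeff F' t = subgroupBlockCoeff
          (Subgroup.centralizer ((Q.map (MulAut.conj x).toMonoidHom : Subgroup G) : Set G))
          (conjBlock Q x f) (t : G)) ∧
        IsDefectGroup p M F' ((P ⊓ Subgroup.normalizer
          ((Q.map (MulAut.conj x).toMonoidHom : Subgroup G) : Set G)).subgroupOf T') := by
  have hp : M.IsPrime := isPrime_of_isPModular hM
  have := Fintype.ofFinite G
  have hf : IsPBlock M f := hQf.1.2
  obtain ⟨F, hF, hFc⟩ := exists_block_of_isStab hM hQf.1.1 hf hT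
  obtain ⟨D, hD⟩ := Cfsg.Agent.H646.DefectBasic.exists_isDefectGroup hM hF
  obtain ⟨hQD, g, hn⟩ := exists_pair_of_stab_defect hM hQf.1.1 hf hT hF hFc hD
  have hB := isBrauerPairOf_of_isNormalSubpair hM hn hQf
  obtain ⟨x, hx⟩ := Cfsg.Agent.S4660.result p M hM B P _ e _ hmax hB
  have hx2 : SubpairLE p M (Q.map (MulAut.conj x).toMonoidHom) (conjBlock Q x f) P e :=
    subpairLE_trans ((subpairLE_conj_iff _ _ x _ _).2 (subpairLE_of_isNormalSubpair hn)) hx
  refine ⟨x, hx2, fun T' hT' => ?_⟩
  have hTT : T' = T.map (MulAut.conj x).toMonoidHom := by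
    ext y
    rw [hT' y, mem_map_conj_iff hT x y]
  subst hTT
  obtain ⟨h1, h2⟩ := isPBlock_subIso hF hFc x
  refine ⟨_, h1, h2, ?_⟩
  obtain ⟨E, hE, hNE⟩ := exists_stab_defect hM hmax.1.1 hx2 hT' h1 h2
  have hcard : Nat.card E = Nat.card D := by
    rw [Cfsg.Agent.S0908.result p M hM F hF D hD, Cfsg.Agent.S0908.result p M hM _ h1 E hE,
      blockDefect_blkMap]
  have h3 : (D.map T.subtype).map (MulAut.conj x).toMonoidHom ≤
      P ⊓ Subgroup.normalizer
        ((Q.map (MulAut.conj x).toMonoidHom : Subgroup G) : Set G) := by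
    refine le_inf (SubpairLE.le hx) ?_
    rw [normalizer_map]
    exact Subgroup.map_mono ((Subgroup.map_subtype_le D).trans hT.le_normalizer)
  have hNT := inf_normalizer_le hM hmax.1.1 hx2 hT'
  have h4 : (P ⊓ Subgroup.normalizer
      ((Q.map (MulAut.conj x).toMonoidHom : Subgroup G) : Set G)).subgroupOf
      (T.map (MulAut.conj x).toMonoidHom) = E := by
    refine Subgroup.eq_of_le_of_card_ge hNE ?_
    rw [hcard, card_subgroupOf hNT]
    have h5 := Subgroup.card_le_of_le h3
    rw [Nat.card_congr ((D.map T.subtype).equivMapOfInjective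
      (MulAut.conj x).toMonoidHom (MulAut.conj x).injective).symm.toEquiv,
      Nat.card_congr (D.equivMapOfInjective T.subtype
      (Subgroup.subtype_injective _)).symm.toEquiv] at h5
    exact h5
  rw [h4]
  exact hE

end Cfsg.Agent.H649
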